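import Cfsg.Agent.Lib.Sporadic.HNIndex.ColCheck
import Cfsg.Agent.Lib.Sporadic.HNIndex.RefineCheck
import Cfsg.Agent.Lib.Sporadic.HNOut.Data

/-!
# Kernel checks for the outer automorphism group of the Harada-Norton group
-/

set_option autoImplicit false
set_option maxRecDepth 100000

namespace CfsgLib.Sporadic.CosetCert.HNOut

open PackedMatrix HNDouble HNIndex OutCert

/-- The image of a letter in the action on 100 points. -/
noncomputable def keyP (c : ℕ) : ℕ := [kX, kX, kY, kYi, kZ].getD c (oneK 7 100)

/-- The image of a point under a word. -/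
noncomputable def runP (L : List ℕ) (q : ℕ) : ℕ :=
  List.rec (motive := fun _ => ℕ) q (fun c _ ih => lk 7 (keyP c) ih) L

/-- The image under a power of a word. -/
noncomputable def iterP (L : List ℕ) (k q : ℕ) : ℕ :=
  Nat.rec (motive := fun _ => ℕ) q (fun _ ih => runP L ih) k

/-- The colour of a pair. -/
noncomputable def colDef (a b : ℕ) : ℕ :=
  Nat.add (adjV a b) (Nat.mul 3 (Nat.rec (motive := fun _ => ℕ) 0
    (fun k ih => Nat.add (Bool.rec (motive := fun _ => ℕ) 0 (Nat.succ k)
      (!Nat.beq a b && Nat.beq (iterP wordE (Nat.succ k) a) b)) ih) 10))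

/-- The four letters of `x, y`. -/
def gensXY : List (List ℕ) := [[0], [2], [1], [3]]

/-- A word in given generators as a word in the letters. -/
def expandG (gens : List (List ℕ)) (L : List ℕ) : List ℕ := (L.map fun k => gens.getD k []).flatten

/-- Only the point `p` is fixed by all the elements of the list. -/
noncomputable def onlyFix (gens stab : List (List ℕ)) (p : ℕ) : Bool :=
  Nat.blt p 100 && (stab.all fun w => Nat.beq (runP (expandG gens w) p) p) &&
    allF (fun q => Nat.beq q p || stab.any fun w => !Nat.beq (runP (expandG gens w) q) q) 100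

/-- Add the orbit to the mask, each point coming from an earlier one. -/
noncomputable def orbP (gens : List (List ℕ)) : List (ℕ × ℕ × ℕ) → ℕ → Option ℕ
  | [], m => some m
  | (p, q, k) :: l, m =>
    bif Nat.testBit m q && (Nat.blt q 100 && Nat.beq (runP (gens.getD k []) q) p)
    then orbP gens l (m ||| 2 ^ p) else none

theorem colE_ok : (List.range 100).all (fun a =>
    allF (fun b => Nat.beq (lk 11 (colE.getD a 0) b) (colDef a b)) 100) = true := by decide +kernel

theorem baseE_ok : baseOK colE [(0, 11)] [] = true := by decide +kernel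

theorem stab_ok : onlyFix gensXY stabXY 0 = true ∧ onlyFix centGens stabC 0 = true ∧
    onlyFix centGens stabD rootD = true := by decide +kernel

theorem orbit_ok : orbP gensXY orbXY 1 = some (2 ^ 100 - 1) ∧
    ((orbP centGens orbC 1).bind fun a => (orbP centGens orbD (2 ^ rootD)).map fun b => a ||| b) =
      some (2 ^ 100 - 1) := by decide +kernel

theorem fixed_ok : allF (fun p => (Nat.beq (run [2] p) p && Nat.beq (run [1, 2, 0] p) p) == Nat.blt p 4)
    1408 = true := by decide +kernel

theorem wordE_ok : eqW (List.flatten (List.replicate 11 wordE)) [] = true ∧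
    eqW wordE [] = false ∧ wordE.all (fun c => Nat.blt c 5) = true := by decide +kernel

/-- The word of a cube of `z x² t ^ k` with `x² = x x`. -/
def cubeW (zz : List ℕ) (k : ℕ) : List ℕ := (List.replicate 3 (zz ++ List.replicate k 5)).flatten

theorem twist_rel :
    mulWord (cubeW [4, 0, 0] 2) (PackedMatrix.one 133) (fun R => eqList R (PackedMatrix.one 133)) = true := by
  decide +kernel

theorem power_rels :
    mulWord (cubeW [4] 2) (PackedMatrix.one 133) (fun R => !eqList R (PackedMatrix.one 133)) = true ∧
    mulWord (cubeW [4] 3) (PackedMatrix.one 133) (fun R => !eqList R (PackedMatrix.one 133)) = true := by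
  decide +kernel

theorem sq_ne_one :
    mulWord [0, 0] (PackedMatrix.one 133) (fun R => !eqList R (PackedMatrix.one 133)) = true := by
  decide +kernel

end CfsgLib.Sporadic.CosetCert.HNOut
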