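import Cfsg.Agent.Lib.Sporadic.OutCert.HS.Main
import Cfsg.Agent.Lib.Schur.HN.Main
import Cfsg.Agent.Lib.Sporadic.HNOut.Check

/-!
# The outer automorphism group of the presented Harada-Norton group has order two
-/

set_option autoImplicit false
set_option maxRecDepth 100000

namespace CfsgLib.Sporadic.CosetCert.HNOut

open PackedMatrix OutCert Cfsg Cfsg.Spor HNDouble HNIndex
open scoped commutatorElement

attribute [local irreducible] PackedMatrix.mul PackedMatrix.ok PackedMatrix.one dig dec red rowMul eqList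
  mX mXi mY mYi mZ mT mTi mV lk pkF allF compK oneK validK kX kY kYi kZ
  tX tXi tY tYi tZ wordE colE cols adjData stabXY stabC stabD orbXY orbC orbD rootD hsh seenSum
  HNIndex.refine hist

theorem eqList_self : ∀ l : List ℕ, eqList l l = true
  | [] => by unfold eqList; rfl
  | a :: t => by
    have h := eqList_self t
    unfold eqList at h ⊢
    show (Nat.beq a a && _) = true
    rw [Bool.and_eq_true, Nat.beq_eq]
    exact ⟨rfl, h⟩

theorem eq_of_md {A B : List ℕ} (hA : ok 19 133 A = true) (hB : ok 19 133 B = true) (h : md A = md B) :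
    A = B := by
  refine List.ext_getElem (by rw [length_of_ok hA, length_of_ok hB]) fun k hk hk' => ?_
  have hk133 : k < 133 := length_of_ok hA ▸ hk
  rw [← List.getD_eq_getElem _ 0 hk, ← List.getD_eq_getElem _ 0 hk', ← row_of_ok hA hk133,
    ← row_of_ok hB hk133, red_eq, red_eq]
  refine Finset.sum_congr rfl fun l hl => ?_
  have e := congrFun (congrFun h ⟨k, hk133⟩) ⟨l, Finset.mem_range.1 hl⟩
  unfold md dec at e
  rw [ZMod.natCast_eq_natCast_iff'] at e
  rw [e]

theorem ok_one : ok 19 133 (PackedMatrix.one 133) = true := oks.2.2.2.2.2.2.2.2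

theorem md_one : md (PackedMatrix.one 133) = 1 := by unfold md; exact dec_one

theorem ne_one_of_check {L : List ℕ}
    (h : mulWord L (PackedMatrix.one 133) (fun R => !eqList R (PackedMatrix.one 133)) = true) :
    (L.map gen7).prod ≠ 1 := by
  intro e
  obtain ⟨R, hR1, hR2, hR3⟩ := mulWord_spec _ _ _ ok_one h
  rw [e, map_one, Units.val_one, mul_one] at hR3
  rw [eq_of_md hR2 ok_one hR3, eqList_self] at hR1
  simp at hR1

theorem rho_injective : Function.Injective rho := by
  rw [← MonoidHom.ker_eq_bot_iff]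
  have := isSimple_HN
  refine (rho.normal_ker.eq_bot_or_eq_top).resolve_right fun h => ?_
  have h0 : rho ([0, 0].map gen7).prod = 1 := MonoidHom.mem_ker.1 (h ▸ Subgroup.mem_top _)
  obtain ⟨R, hR1, hR2, hR3⟩ := mulWord_spec _ _ _ ok_one sq_ne_one
  rw [h0, Units.val_one, mul_one] at hR3
  rw [eq_of_md hR2 ok_one hR3, eqList_self] at hR1
  simp at hR1

theorem twist_cube : (gZ * gX ^ 2 * gT ^ 2) ^ 3 = 1 := by
  obtain ⟨R, hR1, -, hR3⟩ := mulWord_spec _ _ _ ok_one twist_rel
  rw [eqList_spec _ _ hR1, md_one, one_mul] at hR3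
  have e : ((cubeW [4, 0, 0] 2).map gen7).prod = 1 :=
    rho_injective (by rw [map_one]; exact Units.ext (by rw [Units.val_one]; exact hR3.symm))
  rw [← e]
  simp [cubeW, gen7, List.replicate_succ, pow_succ, mul_assoc]

theorem power_cube {k : ℕ} (hk : k = 2 ∨ k = 3) : (gZ * gT ^ k) ^ 3 ≠ 1 := by
  intro h
  obtain ⟨h2, h3⟩ := power_rels
  rcases hk with rfl | rfl
  · refine ne_one_of_check h2 ?_
    rw [← h]
    simp [cubeW, gen7, List.replicate_succ, pow_succ, mul_assoc]
  · refine ne_one_of_check h3 ?_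
    rw [← h]
    simp [cubeW, gen7, List.replicate_succ, pow_succ, mul_assoc]

/-! ### The action on 100 points -/

theorem rep_keyP (c : ℕ) : Rep 7 100 (keyP c) (act (nL c)) := by
  obtain ⟨hx, hy, hz⟩ := act_gens
  unfold keyP nL
  match c with
  | 0 => simpa [hx, sX] using rep_permOf keys_valid.1
  | 1 => simpa [hx, sX] using rep_permOf_inv keys_valid.1
  | 2 => simpa [hy, sY] using rep_permOf keys_valid.2.1
  | 3 => simpa [hy, sY] using rep_permOf_inv keys_valid.2.1
  | 4 => simpa [hz, sZ] using rep_permOf keys_valid.2.2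
  | k + 5 => simpa using rep_one (w := 7) (N := 100) (by norm_num)

theorem runP_eq (L : List ℕ) (i : Fin 100) : runP L i = ((act (ev L) i : Fin 100) : ℕ) := by
  induction L with
  | nil => rw [ev_nil, map_one]; rfl
  | cons c t ih =>
    show lk 7 (keyP c) (runP t i) = _
    rw [ih, rep_keyP c, ev_cons, map_mul, Equiv.Perm.mul_apply]

theorem ev_expandG (gens : List (List ℕ)) (L : List ℕ) :
    ev (expandG gens L) = (L.map fun k => ev (gens.getD k [])).prod := by
  induction L with
  | nil => rfl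
  | cons k t ih =>
    show ev (gens.getD k [] ++ expandG gens t) = _
    rw [ev_append, ih, List.map_cons, List.prod_cons]

/-- An element commuting with the generators fixes a point which is the only fixed point of a stabiliser. -/
theorem fix_root {g : N0} {gens stab : List (List ℕ)} (hg : ∀ w ∈ gens, Commute g (ev w)) {p : ℕ}
    (h : onlyFix gens stab p = true) : ∀ i : Fin 100, (i : ℕ) = p → act g i = i := by
  intro i hi
  simp only [onlyFix, Bool.and_eq_true, List.all_eq_true, allF_iff, Bool.or_eq_true, List.any_eq_true,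
    Nat.beq_eq, Bool.not_eq_true'] at h
  obtain ⟨⟨-, hfix⟩, honly⟩ := h
  rcases honly _ (act g i).2 with e | ⟨w, hw, hne⟩
  · exact Fin.ext (e.trans hi.symm)
  exfalso
  have hc : Commute g (ev (expandG gens w)) := by
    rw [ev_expandG]
    refine Commute.list_prod_right _ _ fun a ha => ?_
    obtain ⟨k, -, rfl⟩ := List.mem_map.1 ha
    rcases lt_or_ge k gens.length with hk | hk
    · rw [List.getD_eq_getElem _ _ hk]; exact hg _ (List.getElem_mem hk)
    · rw [List.getD_eq_default _ _ hk]; exact Commute.one_right g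
  have e : act (ev (expandG gens w)) (act g i) = act g (act (ev (expandG gens w)) i) := by
    rw [← Equiv.Perm.mul_apply, ← map_mul, ← hc.eq, map_mul, Equiv.Perm.mul_apply]
  have hfi : act (ev (expandG gens w)) i = i := by
    apply Fin.ext
    rw [← runP_eq, hi]
    exact hfix w hw
  rw [hfi] at e
  rw [Bool.eq_false_iff, Ne, Nat.beq_eq, runP_eq, e] at hne
  exact hne rfl

theorem orbP_spec {g : N0} {gens : List (List ℕ)} (hg : ∀ w ∈ gens, Commute g (ev w)) :
    ∀ {l : List (ℕ × ℕ × ℕ)} {m m' : ℕ}, orbP gens l m = some m' →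
      (∀ i : Fin 100, m.testBit i = true → act g i = i) → ∀ i : Fin 100, m'.testBit i = true → act g i = i
  | [], m, m', h, hm => by
    simp only [orbP, Option.some.injEq] at h
    exact h ▸ hm
  | (p, q, k) :: l, m, m', h, hm => by
    simp only [orbP] at h
    rcases hc : (Nat.testBit m q && (Nat.blt q 100 && Nat.beq (runP (gens.getD k []) q) p))
    · rw [hc] at h; simp at h
    rw [hc] at h
    simp only [cond_true] at h
    simp only [Bool.and_eq_true, Nat.blt_eq, Nat.beq_eq] at hc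
    obtain ⟨hq, hqN, himg⟩ := hc
    refine orbP_spec hg h fun i hi => ?_
    rw [Nat.testBit_lor, Bool.or_eq_true, Nat.testBit_two_pow, decide_eq_true_eq] at hi
    rcases hi with hi | hi
    · exact hm i hi
    have hcw : Commute g (ev (gens.getD k [])) := by
      rcases lt_or_ge k gens.length with hk | hk
      · rw [List.getD_eq_getElem _ _ hk]; exact hg _ (List.getElem_mem hk)
      · rw [List.getD_eq_default _ _ hk]; exact Commute.one_right g
    have hiq : i = act (ev (gens.getD k [])) ⟨q, hqN⟩ := by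
      apply Fin.ext
      rw [← runP_eq]
      exact hi.symm.trans himg.symm
    rw [hiq, ← Equiv.Perm.mul_apply, ← map_mul, hcw.eq, map_mul, Equiv.Perm.mul_apply, hm ⟨q, hqN⟩ hq]

theorem testBit_full (i : Fin 100) : (2 ^ 100 - 1).testBit i = true := by
  rw [Nat.testBit_two_pow_sub_one, decide_eq_true_eq]
  exact i.2

theorem act_ker_cases {g : N0} (h : act g = 1) : g = 1 ∨ g = nX ^ 2 := by
  by_contra hne
  rw [not_or] at hne
  have h2 : nX ^ 2 ≠ (1 : N0) := fun e => by
    have := sq_facts.2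
    rw [e, orderOf_one] at this
    norm_num at this
  let f : Fin 3 → act.ker := ![⟨1, one_mem _⟩, ⟨nX ^ 2, act_sq⟩, ⟨g, h⟩]
  have hf : Function.Injective f := by
    intro a b e
    fin_cases a <;> fin_cases b <;> first | rfl | (exfalso; have e' := congrArg Subtype.val e; simp [f] at e'; first
      | exact hne.1 e'.symm | exact hne.1 e' | exact hne.2 e'.symm | exact hne.2 e' | exact h2 e'.symm | exact h2 e')
  have := Nat.card_le_card_of_injective f hf
  have := card_act_ker
  simp at *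
  omega

theorem central_of_xy {g : N0} (hx : Commute g nX) (hy : Commute g nY) : g = 1 ∨ g = nX ^ 2 := by
  refine act_ker_cases (Equiv.ext fun i => ?_)
  have hg : ∀ w ∈ gensXY, Commute g (ev w) := by
    intro w hw
    simp only [gensXY, List.mem_cons, List.not_mem_nil, or_false] at hw
    rcases hw with rfl | rfl | rfl | rfl <;> simp [ev, nL, hx, hy, hx.inv_right, hy.inv_right]
  refine orbP_spec hg orbit_ok.1 (fun j hj => fix_root hg stab_ok.1 j ?_) i (testBit_full i)
  rw [show (1 : ℕ) = 2 ^ 0 from rfl, Nat.testBit_two_pow, decide_eq_true_eq] at hj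
  exact hj.symm

theorem central_of_C {g : N0} (hy : Commute g nY) (hw : Commute g (nX⁻¹ * nY * nX)) :
    g = 1 ∨ g = nX ^ 2 := by
  refine act_ker_cases (Equiv.ext fun i => ?_)
  have hg : ∀ w ∈ centGens, Commute g (ev w) := by
    intro w hw'
    simp only [centGens, List.mem_cons, List.not_mem_nil, or_false] at hw'
    rcases hw' with rfl | rfl | rfl | rfl
    · simpa [ev, nL] using hy
    · simpa [ev, nL, mul_assoc] using hw
    · simpa [ev, nL] using hy.inv_right
    · have := hw.inv_right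
      simpa [ev, nL, mul_assoc, mul_inv_rev] using this
  have ho := orbit_ok.2
  rw [Option.bind_eq_some_iff] at ho
  obtain ⟨a, ha, hb'⟩ := ho
  rw [Option.map_eq_some_iff] at hb'
  obtain ⟨b, hb, hab⟩ := hb'
  have hi := testBit_full i
  rw [← hab, Nat.testBit_lor, Bool.or_eq_true] at hi
  rcases hi with hi | hi
  · refine orbP_spec hg ha (fun j hj => fix_root hg stab_ok.2.1 j ?_) i hi
    rw [show (1 : ℕ) = 2 ^ 0 from rfl, Nat.testBit_two_pow, decide_eq_true_eq] at hj
    exact hj.symm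
  · refine orbP_spec hg hb (fun j hj => fix_root hg stab_ok.2.2 j ?_) i hi
    rw [Nat.testBit_two_pow, decide_eq_true_eq] at hj
    exact hj.symm

/-- The element of order 11. -/
noncomputable def nE : N0 := ev wordE

theorem base_bound : ∀ b ∈ baseB, b < 1408 := by decide +kernel

theorem orderOf_nE : orderOf nE = 11 := by
  have : Fact (Nat.Prime 11) := ⟨by norm_num⟩
  refine orderOf_eq_prime ?_ fun e => ?_
  · rw [← ev_nil, ← ev_eq_of_eqW wordE_ok.1]
    simp [List.replicate_succ, ev_append, pow_succ, nE, mul_assoc]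
  · have h := wordE_ok.2.1
    rw [← ev_nil] at e
    have : eqW wordE [] = true := by
      simp only [eqW, List.all_eq_true, Nat.beq_eq]
      intro b hb
      rcases Nat.lt_or_ge b 1408 with hb' | hb'
      · have e' : run wordE (⟨b, hb'⟩ : Fin 1408) = run [] (⟨b, hb'⟩ : Fin 1408) := by
          rw [run_eq, run_eq, show ev wordE = ev [] from e]
        exact e'
      · exact absurd hb' (by
          have := base_bound b hb
          omega)
    rw [h] at this
    exact Bool.noConfusion this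

theorem centralizer_E {g : N0} (hg : Commute g nE) (h2 : g * g = 1) : g = 1 ∨ g = nX ^ 2 := by
  let S : Subgroup HNDouble.P := (Subgroup.centralizer {nE}).map act
  have hS : Nat.card S ≤ 11 := by
    refine le_trans (baseOK_card [(0, 11)] [] S (by simp) baseE_ok ?_ fun σ _ b hb => absurd hb List.not_mem_nil)
      (le_of_eq rfl)
    rintro _ ⟨n, hn, rfl⟩ p q
    have hc : Commute n nE := Subgroup.mem_centralizer_singleton_iff.1 hn
    have hcol : ∀ a b : Fin 100, lk 11 (colE.getD a 0) b = colDef a b := fun a b => by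
      have := List.all_eq_true.1 colE_ok a (List.mem_range.2 a.2)
      simp only [allF_iff, Nat.beq_eq] at this
      exact this b b.2
    have hit : ∀ (k : ℕ) (a : Fin 100), iterP wordE k a = ((act (nE ^ k) a : Fin 100) : ℕ) := by
      intro k a
      induction k with
      | zero => rw [pow_zero, map_one]; rfl
      | succ k ih =>
        show runP wordE (iterP wordE k a) = _
        rw [ih, runP_eq, pow_succ', map_mul, Equiv.Perm.mul_apply]
        rfl
    rw [hcol, hcol, colDef, colDef, (movesW_act n).2 p q]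
    have hterm : ∀ k : ℕ, (!Nat.beq (act n p : ℕ) (act n q : ℕ) &&
        Nat.beq (iterP wordE k (act n p : ℕ)) (act n q : ℕ)) =
        (!Nat.beq (p : ℕ) q && Nat.beq (iterP wordE k p) q) := by
      intro k
      have e : act (nE ^ k) (act n p) = act n (act (nE ^ k) p) := by
        rw [← Equiv.Perm.mul_apply, ← map_mul, ← (hc.pow_right k).eq, map_mul, Equiv.Perm.mul_apply]
      rw [hit, hit, e]
      rw [Bool.eq_iff_iff]
      simp only [Bool.and_eq_true, Bool.not_eq_true', Bool.eq_false_iff, Ne, Nat.beq_eq,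
        Fin.val_inj, EmbeddingLike.apply_eq_iff_eq]
    congr 2
    suffices ∀ m, Nat.rec (motive := fun _ => ℕ) 0
        (fun k ih => Nat.add (Bool.rec (motive := fun _ => ℕ) 0 (Nat.succ k)
          (!Nat.beq (act n p : ℕ) (act n q : ℕ) &&
            Nat.beq (iterP wordE (Nat.succ k) (act n p : ℕ)) (act n q : ℕ))) ih) m =
        Nat.rec (motive := fun _ => ℕ) 0
        (fun k ih => Nat.add (Bool.rec (motive := fun _ => ℕ) 0 (Nat.succ k)
          (!Nat.beq (p : ℕ) q && Nat.beq (iterP wordE (Nat.succ k) p) q)) ih) m from this 10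
    intro m
    induction m with
    | zero => rfl
    | succ m ih =>
      show Nat.add _ _ = Nat.add _ _
      rw [hterm, ih]
  -- the elements commuting with `nE` form the cyclic group of order 22
  let Z : Subgroup N0 := Subgroup.centralizer {nE}
  let f : Z →* HNDouble.P := act.comp Z.subtype
  have hr : f.range = S := by rw [MonoidHom.range_comp, Subgroup.range_subtype]
  have hk := f.ker.card_mul_index
  rw [Subgroup.index_ker, hr] at hk
  let gk : f.ker → act.ker := fun a => ⟨(a : Z), a.2⟩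
  have hgk : Function.Injective gk := fun a b e =>
    Subtype.ext (Subtype.ext (congrArg (fun z : act.ker => (z : N0)) e))
  have hZ : Nat.card Z ≤ 22 := by
    rw [← hk]
    exact le_trans (Nat.mul_le_mul ((Nat.card_le_card_of_injective gk hgk).trans card_act_ker) hS) (by norm_num)
  obtain ⟨w, hw⟩ : ∃ w, w = nE * nX ^ 2 := ⟨_, rfl⟩
  have hcen : ∀ a : N0, Commute (nX ^ 2) a := fun a => (Subgroup.mem_center_iff.1 sq_facts.1 a).symm
  have hord : orderOf w = 22 := by
    rw [hw, (hcen nE).symm.orderOf_mul_eq_mul_orderOf_of_coprime (by rw [orderOf_nE, sq_facts.2]; norm_num),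
      orderOf_nE, sq_facts.2]
  have hle : Subgroup.zpowers w ≤ Z := by
    rw [Subgroup.zpowers_le, hw]
    exact mul_mem (Subgroup.mem_centralizer_singleton_iff.2 rfl)
      (Subgroup.mem_centralizer_singleton_iff.2 (hcen nE).eq)
  have heq : Subgroup.zpowers w = Z := Subgroup.eq_of_le_of_card_ge hle (by rw [Nat.card_zpowers, hord]; exact hZ)
  have hgZ : g ∈ Z := Subgroup.mem_centralizer_singleton_iff.2 hg.eq
  rw [← heq, ← mem_powers_iff_mem_zpowers, Submonoid.mem_powers_iff] at hgZ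
  obtain ⟨k, rfl⟩ := hgZ
  rw [← pow_add, ← orderOf_dvd_iff_pow_eq_one, hord] at h2
  obtain ⟨c, rfl⟩ : 11 ∣ k := by omega
  have hw11 : w ^ 11 = nX ^ 2 := by
    have e : nE ^ 11 = 1 := orderOf_nE ▸ pow_orderOf_eq_one nE
    have e2 : (nX ^ 2) ^ 2 = 1 := by
      have h := pow_orderOf_eq_one (nX ^ 2)
      rwa [sq_facts.2] at h
    rw [hw, (hcen nE).symm.mul_pow, e, one_mul, show 11 = 2 * 5 + 1 from rfl, pow_succ (nX ^ 2), pow_mul,
      e2, one_pow, one_mul]
  rw [pow_mul, hw11]
  have e2 : (nX ^ 2) ^ 2 = 1 := by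
    have h := pow_orderOf_eq_one (nX ^ 2)
    rwa [sq_facts.2] at h
  rcases Nat.even_or_odd' c with ⟨d, rfl | rfl⟩
  · left
    rw [pow_mul (nX ^ 2), e2, one_pow]
  · right
    rw [pow_succ (nX ^ 2), pow_mul (nX ^ 2), e2, one_pow, one_mul]

/-! ### Centralisers in the whole group -/

theorem card_nodeStab (i : Fin 9) : Nat.card (nodeStab i) = chainSize.getD i 0 :=
  le_antisymm (card_nodeStab_le i) (chainSize_le i)

theorem gN_zero' : gN ((0 : Fin 9) : ℕ) = 1 := gN_zero

theorem orbMap_mk (i : Fin 9) (b : N0) :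
    orbMap ⟨i, (b : N0 ⧸ nodeStab i)⟩ = (((b : HN) * (gN i)⁻¹ : HN) : HN ⧸ N0) := rfl

theorem card_fix0_eq : Nat.card (fixes [0]) = 126000 := by
  have h : nodeStab ((1 : Fin 9) : ℕ) = fixes [0] := nodeStab_one
  rw [← h, card_nodeStab]
  rfl

theorem fix0_le_closure : fixes [0] ≤ Subgroup.closure {nY, nX⁻¹ * nY * nX} := by
  have hgen : ∀ k, ev (centGens.getD k []) ∈ Subgroup.closure {nY, nX⁻¹ * nY * nX} ⊓ fixes [0] := by
    intro k
    rcases lt_or_ge k centGens.length with hk | hk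
    · refine ⟨?_, (centGens_mem _ (by rw [List.getD_eq_getElem _ _ hk]; exact List.getElem_mem hk)).1⟩
      have h1 : nY ∈ Subgroup.closure {nY, nX⁻¹ * nY * nX} := Subgroup.subset_closure (by simp)
      have h2 : nX⁻¹ * nY * nX ∈ Subgroup.closure {nY, nX⁻¹ * nY * nX} := Subgroup.subset_closure (by simp)
      match k, hk with
      | 0, _ => simpa [centGens, ev, nL] using h1
      | 1, _ => simpa [centGens, ev, nL, mul_assoc] using h2
      | 2, _ => simpa [centGens, ev, nL] using inv_mem h1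
      | 3, _ =>
        have := inv_mem h2
        simpa [centGens, ev, nL, mul_assoc, mul_inv_rev] using this
      | k + 4, h => simp [centGens] at h
    · rw [List.getD_eq_default _ _ hk]
      exact one_mem _
  have h := levW_card levC (Subgroup.closure {nY, nX⁻¹ * nY * nX} ⊓ fixes [0]) levC_ok.1 fun L hL g hg => by
    simp only [levC, List.mem_map] at hL
    obtain ⟨t, -, rfl⟩ := hL
    simp only [List.mem_map] at hg
    obtain ⟨w, -, rfl⟩ := hg
    rw [ev_expandC]
    refine Subgroup.list_prod_mem _ fun a ha => ?_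
    simp only [List.mem_map] at ha
    obtain ⟨k, -, rfl⟩ := ha
    exact hgen k
  rw [levC_ok.2.1] at h
  have e := Subgroup.eq_of_le_of_card_ge (inf_le_right : _ ⊓ fixes [0] ≤ fixes [0])
    (by rw [card_fix0_eq]; exact le_trans (Nat.le_mul_of_pos_right _ Nat.card_pos) h)
  exact e ▸ inf_le_left

/-- A subgroup of `N₀` fixing a coset lies in a conjugate of the stabiliser of its node. -/
theorem mem_stab_of_fixed {c : N0} {g : HN} (hc : Commute (c : HN) g) {i : Fin 9} {b : N0}
    (hg : orbMap ⟨i, (b : N0 ⧸ nodeStab i)⟩ = (g : HN ⧸ N0)) : b⁻¹ * c * b ∈ nodeStab i := by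
  have h1 : orbMap ⟨i, ((c * b : N0) : N0 ⧸ nodeStab i)⟩ = orbMap ⟨i, (b : N0 ⧸ nodeStab i)⟩ := by
    rw [orbMap_mk] at hg
    have e := congrArg (fun x : HN ⧸ N0 => (c : HN) • x) hg
    rw [MulAction.Quotient.smul_mk, MulAction.Quotient.smul_mk, smul_eq_mul, smul_eq_mul] at e
    have e2 : ((c : HN) * g : HN ⧸ N0) = (g : HN ⧸ N0) := by
      rw [hc.eq, QuotientGroup.eq, mul_inv_rev, mul_assoc, inv_mul_cancel, mul_one]
      exact inv_mem c.2
    rw [e2, ← hg, ← mul_assoc] at e
    rw [orbMap_mk, orbMap_mk, Subgroup.coe_mul]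
    exact e
  have h2 := eq_of_heq (Sigma.mk.inj_iff.1 (orbMap_injective h1)).2
  rw [QuotientGroup.eq] at h2
  have := inv_mem h2
  simpa [mul_assoc] using this

theorem mem_N0_of_node_zero {g : HN} {b : N0}
    (hg : orbMap ⟨0, (b : N0 ⧸ nodeStab ((0 : Fin 9) : ℕ))⟩ = (g : HN ⧸ N0)) : g ∈ N0 := by
  rw [orbMap_mk, gN_zero', inv_one, mul_one, QuotientGroup.eq] at hg
  simpa using mul_mem b.2 hg

theorem mem_N0_of_commute_E {g : HN} (hg : Commute (nE : HN) g) : g ∈ N0 := by
  obtain ⟨⟨i, b⟩, hib⟩ := orbMap_surjective (g : HN ⧸ N0)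
  induction b using QuotientGroup.induction_on with
  | _ b =>
    have hm := mem_stab_of_fixed hg hib
    have hord : orderOf (b⁻¹ * nE * b) = 11 := by
      have e := orderOf_injective (MulAut.conj b⁻¹).toMonoidHom (MulAut.conj b⁻¹).injective nE
      rw [orderOf_nE] at e
      rw [← e]
      simp [mul_assoc]
    have hdvd := Subgroup.orderOf_dvd_natCard _ hm
    rw [hord, card_nodeStab] at hdvd
    have hi : i = 0 := by
      fin_cases i <;> first | rfl | (simp [chainSize] at hdvd)
    subst hi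
    exact mem_N0_of_node_zero hib

theorem mem_N0_of_commute_sq {g : HN} (hg : Commute (gX ^ 2) g) : g ∈ N0 := by
  obtain ⟨i, hi, m, hm⟩ := exists_node g
  have hconj : (m : HN) * conjX 0 = conjX i * (m : HN) := by
    obtain ⟨n, hn⟩ : ∃ n : N0, g = (n : HN) * (gN i * (m : HN)) := ⟨⟨_, hm⟩, by rw [inv_mul_cancel_right]⟩
    have hc : (n : HN)⁻¹ * gX ^ 2 * (n : HN) = gX ^ 2 := by
      have e := Subgroup.mem_center_iff.1 sq_facts.1 n
      have e' : (n : HN) * gX ^ 2 = gX ^ 2 * (n : HN) := congrArg Subtype.val e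
      rw [mul_assoc, ← e', inv_mul_cancel_left]
    have e2 : conjX 0 = gX ^ 2 := by rw [conjX, gN_zero, inv_one, one_mul, mul_one]
    have e3 : g⁻¹ * gX ^ 2 * g = gX ^ 2 := by rw [mul_assoc, hg.eq, inv_mul_cancel_left]
    rw [e2]
    nth_rewrite 1 [← e3]
    rw [hn, conjX]
    calc (m : HN) * ((↑n * (gN i * ↑m))⁻¹ * gX ^ 2 * (↑n * (gN i * ↑m)))
        = (gN i)⁻¹ * ((n : HN)⁻¹ * gX ^ 2 * (n : HN)) * gN i * (m : HN) := by group
      _ = (gN i)⁻¹ * gX ^ 2 * gN i * (m : HN) := by rw [hc]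
  have hi0 : i = 0 := by
    have e := congrArg (fun v => Nat.mod v hMod) (hist_iso (iso_of_conj hi (by norm_num) m hconj))
    have g' : ∀ k < 9, Nat.mod (hist (colN k)) hMod =
        [51443967934, 909139587944, 879359220513, 192236074688, 310436278433, 332234250635, 1010359874949,
          294803484591, 502453446668].getD k 0 := fun k hk => by
      rw [← hists_ok, List.getD_eq_getElem _ _ (by simpa using hk)]
      simp [colN]
    beta_reduce at e
    rw [g' i hi, g' 0 (by norm_num)] at e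
    interval_cases i <;> first | rfl | exact absurd e (by norm_num)
  subst hi0
  rw [Eqv, gN_zero, one_mul] at hm
  simpa using mul_mem hm m.2

theorem centralizer_C {g : HN} (hy : Commute gY g) (hw : Commute (gX⁻¹ * gY * gX) g) :
    ∃ k : ℕ, k < 5 ∧ (g = gT ^ k ∨ g = gT ^ k * gX ^ 2) := by
  let Z : Subgroup HN := Subgroup.centralizer {gY, gX⁻¹ * gY * gX}
  have hmem : ∀ a : HN, a ∈ Z ↔ Commute gY a ∧ Commute (gX⁻¹ * gY * gX) a := fun a => by
    simp [Z, Subgroup.mem_centralizer_iff, Commute, SemiconjBy]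
  let _ : MulAction Z (HN ⧸ N0) := MulAction.compHom _ Z.subtype
  obtain ⟨c0, hc0⟩ : ∃ c0 : HN ⧸ N0, c0 = ((1 : HN) : HN ⧸ N0) := ⟨_, rfl⟩
  have hfix : ∀ q ∈ MulAction.orbit Z c0,
      q ∈ ({c0} : Finset (HN ⧸ N0)) ∨ ∃ b : N0, ((phi b 0 : Fin 1408) : ℕ) < 4 ∧
        orbMap ⟨1, (b : N0 ⧸ nodeStab ((1 : Fin 9) : ℕ))⟩ = q := by
    rintro _ ⟨⟨a, ha⟩, rfl⟩
    obtain ⟨hay, haw⟩ := (hmem a).1 ha
    obtain ⟨⟨i, b⟩, hib⟩ := orbMap_surjective ((a : HN) : HN ⧸ N0)
    have hq : (⟨a, ha⟩ : Z) • c0 = ((a : HN) : HN ⧸ N0) := by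
      rw [hc0]
      show ((a * 1 : HN) : HN ⧸ N0) = _
      rw [mul_one]
    show (⟨a, ha⟩ : Z) • c0 ∈ _ ∨ ∃ b : N0, _ ∧ orbMap _ = (⟨a, ha⟩ : Z) • c0
    rw [hq]
    induction b using QuotientGroup.induction_on with
    | _ b =>
      have hm1 := mem_stab_of_fixed (c := nY) hay hib
      have hm2 := mem_stab_of_fixed (c := nX⁻¹ * nY * nX) haw hib
      have hi : i = 0 ∨ i = 1 := by
        let C' : Subgroup N0 := (fixes [0]).map (MulAut.conj b⁻¹).toMonoidHom
        have hle : C' ≤ nodeStab i := by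
          rintro _ ⟨c, hc, rfl⟩
          have hc' : c ∈ Subgroup.closure {nY, nX⁻¹ * nY * nX} := fix0_le_closure hc
          clear hc
          induction hc' using Subgroup.closure_induction with
          | mem x hx =>
            rcases hx with rfl | rfl
            · simpa [mul_assoc] using hm1
            · simpa [mul_assoc] using hm2
          | one => rw [map_one]; exact one_mem _
          | mul x y _ _ ihx ihy => rw [map_mul]; exact mul_mem ihx ihy
          | inv x _ ihx => rw [map_inv]; exact inv_mem ihx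
        have hd := Subgroup.card_dvd_of_le hle
        rw [Subgroup.card_map_of_injective (MulAut.conj b⁻¹).injective, card_fix0_eq, card_nodeStab] at hd
        fin_cases i <;> simp [chainSize] at hd ⊢
      rcases hi with rfl | rfl
      · left
        rw [Finset.mem_singleton, hc0, QuotientGroup.eq]
        simpa using inv_mem (mem_N0_of_node_zero hib)
      · right
        refine ⟨b, ?_, hib⟩
        have h1 : nodeStab ((1 : Fin 9) : ℕ) = fixes [0] := nodeStab_one
        rw [h1] at hm1 hm2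
        have key : ∀ c : N0, b⁻¹ * c * b ∈ fixes [0] → phi c (phi b 0) = phi b 0 := by
          intro c hc
          have := hc 0 (by simp)
          rw [map_mul, map_mul, map_inv, Equiv.Perm.mul_apply, Equiv.Perm.mul_apply,
            Equiv.Perm.inv_eq_iff_eq] at this
          exact this
        have e1 : run [2] (phi b 0 : Fin 1408) = ((phi b 0 : Fin 1408) : ℕ) := by
          rw [run_eq, show ev [2] = nY by simp [ev, nL], key nY hm1]
        have e2 : run [1, 2, 0] (phi b 0 : Fin 1408) = ((phi b 0 : Fin 1408) : ℕ) := by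
          rw [run_eq, show ev [1, 2, 0] = nX⁻¹ * nY * nX by simp [ev, nL, mul_assoc], key _ hm2]
        have h := allF_iff.1 fixed_ok _ (phi b 0).2
        rw [e1, e2] at h
        simp at h
        exact h
  classical
  have : Finite (HN ⧸ N0) := Finite.of_surjective _ orbMap_surjective
  have horb : (MulAction.orbit Z c0).ncard ≤ 5 := by
    let pick : Fin 4 → HN ⧸ N0 := fun p =>
      if h : ∃ b : N0, ((phi b 0 : Fin 1408) : ℕ) = p then
        orbMap ⟨1, (h.choose : N0 ⧸ nodeStab ((1 : Fin 9) : ℕ))⟩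
      else c0
    have hsub : MulAction.orbit Z c0 ⊆ (({c0} : Finset (HN ⧸ N0)) ∪ Finset.univ.image pick : Finset _) := by
      intro q hq
      rw [Finset.coe_union, Set.mem_union, Finset.mem_coe, Finset.mem_coe]
      rcases hfix q hq with h | ⟨b, hb, rfl⟩
      · exact Or.inl h
      · refine Or.inr (Finset.mem_image.2 ⟨⟨_, hb⟩, Finset.mem_univ _, ?_⟩)
        have hex : ∃ b' : N0, ((phi b' 0 : Fin 1408) : ℕ) = ((phi b 0 : Fin 1408) : ℕ) := ⟨b, rfl⟩
        simp only [pick, dif_pos hex]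
        congr 1
        refine congrArg (Sigma.mk (1 : Fin 9)) (QuotientGroup.eq.2 ?_)
        have h1 : nodeStab ((1 : Fin 9) : ℕ) = fixes [0] := nodeStab_one
        rw [h1]
        intro j hj
        rw [List.mem_singleton] at hj
        rw [show j = 0 from Fin.ext hj, map_mul, map_inv, Equiv.Perm.mul_apply, Equiv.Perm.inv_eq_iff_eq]
        exact (Fin.ext hex.choose_spec).symm
    refine (Set.ncard_le_ncard hsub (Finset.finite_toSet _)).trans ?_
    rw [Set.ncard_coe_finset]
    refine (Finset.card_union_le _ _).trans ?_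
    have := Finset.card_image_le (s := (Finset.univ : Finset (Fin 4))) (f := pick)
    simp at this ⊢
    omega
  have hstab : Nat.card (MulAction.stabilizer Z c0) ≤ 2 := by
    have hN : ∀ a : MulAction.stabilizer Z c0, ((a : Z) : HN) ∈ N0 := fun a => by
      have h : (a : Z) • c0 = c0 := a.2
      have e : ((a : Z) : HN) • c0 = c0 := h
      simp only [hc0] at e
      replace h := e
      change ((((a : Z) : HN) * 1 : HN) : HN ⧸ N0) = _ at h
      rw [mul_one, QuotientGroup.eq, mul_one] at h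
      simpa using inv_mem h
    let f : MulAction.stabilizer Z c0 → sqSub := fun a => ⟨⟨((a : Z) : HN), hN a⟩, by
      obtain ⟨hay, haw⟩ := (hmem _).1 (a : Z).2
      rcases central_of_C (g := ⟨((a : Z) : HN), hN a⟩) (Subtype.ext hay.symm.eq) (Subtype.ext haw.symm.eq)
        with e | e <;> rw [e]
      · exact one_mem _
      · exact Subgroup.mem_zpowers _⟩
    refine le_trans (Nat.card_le_card_of_injective f ?_) card_sqSub.le
    intro a b e
    exact Subtype.ext (Subtype.ext (congrArg (fun z : sqSub => ((z : N0) : HN)) e))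
  have hfinHN : Finite HN := Nat.finite_of_card_ne_zero (by rw [card_HN]; norm_num)
  have hZ : Nat.card Z ≤ 10 := by
    have h := (MulAction.stabilizer Z c0).index_mul_card
    rw [MulAction.index_stabilizer] at h
    rw [← h]
    exact Nat.mul_le_mul horb hstab
  obtain ⟨h5, hx, htY, -⟩ := t_rels
  have hTy : Commute gY gT := by
    show gY * gT = gT * gY
    calc gY * gT = gY * gT * (gT⁻¹ * gY⁻¹ * gT * gY) := by rw [htY, mul_one]
      _ = gT * gY := by group
  have hTZ : gT ∈ Z := (hmem gT).2 ⟨hTy, by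
    have hh := commute_of_run (c := [1, 2, 0]) (by
      have h := levC_ok.2.2
      simp only [List.all_eq_true, Nat.beq_eq] at h
      exact h [1, 2, 0] (by simp [centGens]))
    simpa [ev, nL, nX, nY, mul_assoc] using hh⟩
  have hX2Z : gX ^ 2 ∈ Z := by
    have c1 : Commute gY (gX ^ 2) := congrArg Subtype.val (Subgroup.mem_center_iff.1 sq_facts.1 nY)
    exact (hmem _).2 ⟨c1, (((Commute.pow_self gX 2).inv_right.mul_right c1.symm).mul_right
      (Commute.pow_self gX 2)).symm⟩
  let F : Fin 5 × Fin 2 → Z := fun e => ⟨gT ^ (e.1 : ℕ) * (gX ^ 2) ^ (e.2 : ℕ),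
    mul_mem (pow_mem hTZ _) (pow_mem hX2Z _)⟩
  have hT1 : gT ≠ 1 := by
    intro e
    refine power_cube (k := 2) (Or.inl rfl) ?_
    have h3 := t_rels.2.2.2
    rw [e, mul_one] at h3
    rw [e, one_pow, mul_one, h3]
  have hordT : orderOf gT = 5 := by
    have : Fact (Nat.Prime 5) := ⟨by norm_num⟩
    exact orderOf_eq_prime h5 hT1
  have hX2 : orderOf (gX ^ 2) = 2 := by
    have h := sq_facts.2
    rw [← orderOf_injective N0.subtype N0.subtype_injective (nX ^ 2)] at h
    exact h
  have hF : Function.Injective F := by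
    rintro ⟨a, b⟩ ⟨c, d⟩ e
    have e' : gT ^ (a : ℕ) * (gX ^ 2) ^ (b : ℕ) = gT ^ (c : ℕ) * (gX ^ 2) ^ (d : ℕ) := congrArg Subtype.val e
    have key : (gT ^ (c : ℕ))⁻¹ * gT ^ (a : ℕ) = (gX ^ 2) ^ (d : ℕ) * ((gX ^ 2) ^ (b : ℕ))⁻¹ := by
      rw [eq_mul_inv_iff_mul_eq, mul_assoc, inv_mul_eq_iff_eq_mul]
      exact e'
    have h1 : (gT ^ (c : ℕ))⁻¹ * gT ^ (a : ℕ) ∈ Subgroup.zpowers gT :=
      mul_mem (inv_mem (pow_mem (Subgroup.mem_zpowers _) _)) (pow_mem (Subgroup.mem_zpowers _) _)
    have h2 : (gT ^ (c : ℕ))⁻¹ * gT ^ (a : ℕ) ∈ Subgroup.zpowers (gX ^ 2) := key ▸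
      mul_mem (pow_mem (Subgroup.mem_zpowers _) _) (inv_mem (pow_mem (Subgroup.mem_zpowers _) _))
    have hz : (gT ^ (c : ℕ))⁻¹ * gT ^ (a : ℕ) = 1 := by
      have d1 := Subgroup.orderOf_dvd_natCard _ h1
      have d2 := Subgroup.orderOf_dvd_natCard _ h2
      rw [Nat.card_zpowers, hordT] at d1
      rw [Nat.card_zpowers, hX2] at d2
      exact orderOf_eq_one_iff.1 (Nat.dvd_one.1 (by simpa using Nat.dvd_gcd d1 d2))
    have hac : (a : ℕ) = c :=
      pow_injOn_Iio_orderOf (by rw [hordT]; exact a.2) (by rw [hordT]; exact c.2) (inv_mul_eq_one.1 hz).symm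
    rw [hac] at e'
    have hbd : (b : ℕ) = d :=
      pow_injOn_Iio_orderOf (by rw [hX2]; exact b.2) (by rw [hX2]; exact d.2) (mul_left_cancel e')
    exact Prod.ext (Fin.ext hac) (Fin.ext hbd)
  have hFs : Function.Surjective F := ((Nat.bijective_iff_injective_and_card F).2
    ⟨hF, le_antisymm (Nat.card_le_card_of_injective F hF) (hZ.trans (by simp))⟩).2
  obtain ⟨⟨a, b⟩, hab⟩ := hFs ⟨g, (hmem g).2 ⟨hy, hw⟩⟩
  have hab' : gT ^ (a : ℕ) * (gX ^ 2) ^ (b : ℕ) = g := congrArg Subtype.val hab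
  refine ⟨a, a.2, ?_⟩
  fin_cases b
  · left; simpa using hab'.symm
  · right; simpa using hab'.symm

/-! ### The automorphism -/

/-- The images of the generators. -/
noncomputable def twistGen : HN.Gen → HN
  | .x => gX
  | .y => gY
  | .z => gZ * gX ^ 2
  | .t => gT ^ 2

theorem twist_rels : ∀ r ∈ coxRelators HN.edges ∪ {r | r ∈ HN.extra}, FreeGroup.lift twistGen r = 1 := by
  obtain ⟨r1, r2, r3, r4, r5, r6, r7, r8, r9, r10⟩ := hn_rels
  obtain ⟨h5, hx, hty, -⟩ := t_rels
  have hc : ∀ n : N0, Commute (gX ^ 2) (n : HN) := fun n =>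
    (congrArg Subtype.val (Subgroup.mem_center_iff.1 sq_facts.1 n)).symm
  have hd : gX ^ 2 * gX ^ 2 = 1 := by
    have h := pow_orderOf_eq_one (nX ^ 2)
    rw [sq_facts.2, pow_two (nX ^ 2)] at h
    exact congrArg Subtype.val h
  obtain ⟨d, hdd⟩ : ∃ d, d = gX ^ 2 := ⟨_, rfl⟩
  have hu : Commute d (gY ^ 3 * gX * gY * gX * gY) := hdd ▸ hc (nY ^ 3 * nX * nY * nX * nY)
  have hw : Commute d (gY * gX * gY * gX * gY ^ 2 * gX * gY⁻¹) :=
    hdd ▸ hc (nY * nX * nY * nX * nY ^ 2 * nX * nY⁻¹)
  have hz : Commute d gZ := hdd ▸ hc nZ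
  have hxd : Commute d gX := hdd ▸ hc nX
  rw [← hdd] at hd
  have hdi : d⁻¹ = d := inv_eq_of_mul_eq_one_right hd
  rintro r (⟨a, ha, -⟩ | hr)
  · exact absurd ha (by simp [coxNodes, HN.edges])
  simp only [HN.extra, Set.mem_setOf_eq, List.mem_cons, List.not_mem_nil, or_false] at hr
  rcases hr with rfl | rfl | rfl | rfl | rfl | rfl | rfl | rfl | rfl | rfl | rfl | rfl | rfl | rfl <;>
    simp only [map_mul, map_pow, map_inv, FreeGroup.lift_apply_of, twistGen]
  · exact r1
  · exact r2
  · exact r3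
  · exact r4
  · exact r5
  · exact r6
  · rw [← hdd, hz.symm.mul_pow, r7, pow_two, hd, one_mul]
  · rw [← hdd, mul_assoc, hxd.eq, ← mul_assoc, ((hz.mul_right hxd).symm).mul_pow, r8, pow_two, hd, one_mul]
  · rw [← hdd] at r9 ⊢
    generalize gY * gX * gY * gX * gY ^ 2 * gX * gY⁻¹ = w at hw r9 ⊢
    calc (gZ * d)⁻¹ * w⁻¹ * (gZ * d) * w * d⁻¹
        = d⁻¹ * (gZ⁻¹ * w⁻¹ * gZ * (d * w)) * d⁻¹ := by group
      _ = d⁻¹ * (gZ⁻¹ * w⁻¹ * gZ * (w * d)) * d⁻¹ := by rw [hw.eq]
      _ = d⁻¹ * (gZ⁻¹ * w⁻¹ * gZ * w) := by group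
      _ = d⁻¹ * d := by rw [mul_inv_eq_one.1 r9]
      _ = 1 := inv_mul_cancel d
  · rw [← hdd]
    generalize gY ^ 3 * gX * gY * gX * gY = u at hu r10 ⊢
    obtain ⟨a, ha⟩ : ∃ a, a = u⁻¹ * gZ * u * gX := ⟨_, rfl⟩
    have e : u⁻¹ * (gZ * d) * u * gX = a * d := by
      calc u⁻¹ * (gZ * d) * u * gX = u⁻¹ * gZ * (d * (u * gX)) := by simp only [mul_assoc]
        _ = u⁻¹ * gZ * (u * gX * d) := by rw [(hu.mul_right hxd).eq]
        _ = a * d := by rw [ha]; simp only [mul_assoc]
    have hda : Commute d a := ha ▸ ((hu.inv_right.mul_right hz).mul_right hu).mul_right hxd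
    rw [← ha] at r10
    rw [e, hda.symm.mul_pow, mul_assoc gZ d, ← mul_assoc d, (hda.pow_right 3).eq, mul_assoc (a ^ 3) d,
      ← pow_succ' d 3, show 3 + 1 = 2 * 2 from rfl, pow_mul, pow_two d, hd, one_pow, mul_one, r10]
  · rw [← pow_mul, show 2 * 5 = 5 * 2 from rfl, pow_mul, h5, one_pow]
  · have h1 : gX⁻¹ * gT * gX = (gT ^ 2)⁻¹ := eq_inv_of_mul_eq_one_left hx
    calc gX⁻¹ * gT ^ 2 * gX * (gT ^ 2) ^ 2 = (gX⁻¹ * gT * gX) ^ 2 * (gT ^ 2) ^ 2 := by
          rw [pow_two gT, pow_two (gX⁻¹ * gT * gX)]; group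
      _ = 1 := by rw [h1]; group
  · have h : Commute gY gT := by
      show gY * gT = gT * gY
      calc gY * gT = gY * gT * (gT⁻¹ * gY⁻¹ * gT * gY) := by rw [hty, mul_one]
        _ = gT * gY := by group
    rw [mul_assoc, ← (h.pow_right 2).eq]
    group
  · exact twist_cube

/-- The endomorphism. -/
noncomputable def twist : HN →* HN := PresentedGroup.toGroup twist_rels

theorem twist_of : twist gX = gX ∧ twist gY = gY ∧ twist gZ = gZ * gX ^ 2 ∧ twist gT = gT ^ 2 :=
  ⟨PresentedGroup.toGroup.of _, PresentedGroup.toGroup.of _, PresentedGroup.toGroup.of _,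
    PresentedGroup.toGroup.of _⟩

theorem hom_ext {G : Type*} [Group G] {f g : HN →* G} (hx : f gX = g gX) (hy : f gY = g gY) (hz : f gZ = g gZ)
    (ht : f gT = g gT) : f = g :=
  PresentedGroup.ext fun a => by
    cases a
    exacts [hx, hy, hz, ht]

theorem twist_twist : twist.comp twist = (MulAut.conj (gX ^ 2)).toMonoidHom := by
  obtain ⟨tx, ty, tz, tt⟩ := twist_of
  have hd : gX ^ 2 * gX ^ 2 = 1 := by
    have h := pow_orderOf_eq_one (nX ^ 2)
    rw [sq_facts.2, pow_two (nX ^ 2)] at h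
    exact congrArg Subtype.val h
  have hc : ∀ n : N0, gX ^ 2 * (n : HN) * (gX ^ 2)⁻¹ = n := fun n => by
    rw [mul_inv_eq_iff_eq_mul]
    exact (congrArg Subtype.val (Subgroup.mem_center_iff.1 sq_facts.1 n)).symm
  refine hom_ext ?_ ?_ ?_ ?_
  · rw [MonoidHom.comp_apply, tx, tx]; exact (hc nX).symm
  · rw [MonoidHom.comp_apply, ty, ty]; exact (hc nY).symm
  · rw [MonoidHom.comp_apply, tz, map_mul, map_pow, tz, tx, mul_assoc, hd, mul_one]
    exact (hc nZ).symm
  · rw [MonoidHom.comp_apply, tt, map_pow, tt, ← pow_mul]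
    show gT ^ (2 * 2) = gX ^ 2 * gT * (gX ^ 2)⁻¹
    rw [inv_eq_of_mul_eq_one_right hd, ← gT_rev]
    exact eq_inv_of_mul_eq_one_left (by rw [← pow_succ]; exact t_rels.1)

/-- The outer automorphism. -/
noncomputable def outer : MulAut HN := MulEquiv.ofBijective twist ⟨
  Function.Injective.of_comp (f := twist) (by
    rw [← MonoidHom.coe_comp, twist_twist]; exact (MulAut.conj (gX ^ 2)).injective),
  Function.Surjective.of_comp (g := twist) (by
    rw [← MonoidHom.coe_comp, twist_twist]; exact (MulAut.conj (gX ^ 2)).surjective)⟩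

theorem outer_apply (g : HN) : outer g = twist g := rfl

theorem outer_notMem : outer ∉ Inn HN := by
  rintro ⟨g, hg⟩
  obtain ⟨tx, ty, tz, -⟩ := twist_of
  have e : ∀ a, g * a * g⁻¹ = twist a := fun a => DFunLike.congr_fun hg a
  have cx : Commute g gX := mul_inv_eq_iff_eq_mul.1 ((e gX).trans tx)
  have cy : Commute g gY := mul_inv_eq_iff_eq_mul.1 ((e gY).trans ty)
  have hgN : g ∈ N0 := mem_N0_of_commute_sq (cx.pow_right 2).symm
  have hz := (e gZ).trans tz
  rcases central_of_xy (g := ⟨g, hgN⟩) (Subtype.ext cx.eq) (Subtype.ext cy.eq) with h | h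
  · rw [show g = 1 from congrArg Subtype.val h, one_mul, inv_one, mul_one, left_eq_mul] at hz
    exact x_sq_ne_one hz
  · have hc : (⟨g, hgN⟩ : N0) * nZ = nZ * ⟨g, hgN⟩ := by
      rw [h]
      exact (Subgroup.mem_center_iff.1 sq_facts.1 nZ).symm
    rw [show g * gZ = gZ * g from congrArg Subtype.val hc, mul_inv_cancel_right, left_eq_mul] at hz
    exact x_sq_ne_one hz

/-! ### Every automorphism is inner or the product of the outer one and an inner one -/

theorem index_two_K {K : Subgroup N0} [K.Normal] (h2 : K.index = 2) : nZ ∉ K := by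
  intro hz
  obtain ⟨hx, hy⟩ := CfsgLib.Schur.Sporadic.HN.mem_of_index_two h2
  have : K = ⊤ := by
    rw [eq_top_iff, ← closure_n, Subgroup.closure_le]
    rintro _ (rfl | rfl | rfl) <;> assumption
  rw [this, Subgroup.index_top] at h2
  norm_num at h2

theorem aut_eq_of_quot {K : Type*} [Group K] (hK : commutator K = ⊤) {a b : MulAut K}
    (h : ∀ k, (a k)⁻¹ * b k ∈ Subgroup.center K) : a = b := by
  have key : ∀ k, k ∈ (commutator K) → a k = b k := by
    intro k hk
    have hle : commutator K ≤ (MonoidHom.eqLocus a.toMonoidHom b.toMonoidHom) := by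
      rw [commutator_def, Subgroup.commutator_le]
      intro p _ q _
      show a ⁅p, q⁆ = b ⁅p, q⁆
      obtain ⟨c, hc, hcp⟩ : ∃ c ∈ Subgroup.center K, b p = a p * c := ⟨_, h p, (mul_inv_cancel_left _ _).symm⟩
      obtain ⟨d, hd, hdq⟩ : ∃ d ∈ Subgroup.center K, b q = a q * d := ⟨_, h q, (mul_inv_cancel_left _ _).symm⟩
      rw [map_commutatorElement, map_commutatorElement, hcp, hdq]
      have c1 := Subgroup.mem_center_iff.1 hc
      have d1 := Subgroup.mem_center_iff.1 hd
      simp only [commutatorElement_def, mul_inv_rev]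
      symm
      calc a p * c * (a q * d) * (c⁻¹ * (a p)⁻¹) * (d⁻¹ * (a q)⁻¹)
          = a p * (c * (a q * d)) * (c⁻¹ * (a p)⁻¹) * (d⁻¹ * (a q)⁻¹) := by group
        _ = a p * ((a q * d) * c) * (c⁻¹ * (a p)⁻¹) * (d⁻¹ * (a q)⁻¹) := by rw [c1 (a q * d)]
        _ = a p * a q * (d * (a p)⁻¹) * (d⁻¹ * (a q)⁻¹) := by group
        _ = a p * a q * ((a p)⁻¹ * d) * (d⁻¹ * (a q)⁻¹) := by rw [d1 (a p)⁻¹]
        _ = a p * a q * (a p)⁻¹ * (a q)⁻¹ := by group
    exact hle hk
  exact MulEquiv.ext fun k => key k (hK ▸ Subgroup.mem_top k)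

theorem reduce_HS {K : Type} [Group K] (h : IsNonsplitDoubleCover K HS) (zeta : MulAut K)
    (hzeta : ∀ k : K, zeta ≠ MulAut.conj k) (a : MulAut K) :
    ∃ k : K, a = MulAut.conj k ∨ a = MulAut.conj k * zeta := by
  have hperf := CfsgLib.Schur.Sporadic.HN.commutator_K h
  obtain ⟨-, ⟨e⟩, -⟩ := h
  have hmap : ∀ b : MulAut K, (Subgroup.center K).map b.toMonoidHom = Subgroup.center K := fun b =>
    Subgroup.characteristic_iff_map_eq.1 inferInstance b
  let ind : MulAut K →* MulAut (K ⧸ Subgroup.center K) := MonoidHom.mk'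
    (fun b => QuotientGroup.congr (Subgroup.center K) (Subgroup.center K) b (hmap b))
    (fun b c => MulEquiv.ext fun q => by
      induction q using QuotientGroup.induction_on with
      | _ k => rfl)
  have hinj : Function.Injective ind := by
    intro b c hbc
    refine aut_eq_of_quot hperf fun k => ?_
    exact QuotientGroup.eq.1 (DFunLike.congr_fun hbc (k : K ⧸ Subgroup.center K))
  have hInn : ∀ b : MulAut (K ⧸ Subgroup.center K), b ∈ Inn (K ⧸ Subgroup.center K) →
      ∃ k : K, b = ind (MulAut.conj k) := by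
    rintro _ ⟨q, rfl⟩
    induction q using QuotientGroup.induction_on with
    | _ k =>
      refine ⟨k, MulEquiv.ext fun q => ?_⟩
      induction q using QuotientGroup.induction_on with
      | _ j => rfl
  have hout : Nat.card (Out (K ⧸ Subgroup.center K)) = 2 :=
    (card_out_congr e).trans CfsgLib.Sporadic.OutCert.HS.card_out
  have hz : ind zeta ∉ Inn (K ⧸ Subgroup.center K) := fun hm => by
    obtain ⟨k, hk⟩ := hInn _ hm
    exact hzeta k (hinj hk)
  by_cases ha : ind a ∈ Inn (K ⧸ Subgroup.center K)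
  · obtain ⟨k, hk⟩ := hInn _ ha
    exact ⟨k, Or.inl (hinj hk)⟩
  · have hidx : (Inn (K ⧸ Subgroup.center K)).index = 2 := hout
    have hm : ind a * (ind zeta)⁻¹ ∈ Inn (K ⧸ Subgroup.center K) := by
      rw [Subgroup.mul_mem_iff_of_index_two hidx]
      simp [ha, hz]
    obtain ⟨k, hk⟩ := hInn _ hm
    refine ⟨k, Or.inr (hinj ?_)⟩
    rw [map_mul, ← hk, inv_mul_cancel_right]

theorem fix_xy {α : MulAut HN} (hα : α (gX ^ 2) = gX ^ 2) :
    ∃ (K : Subgroup N0) (n : N0), K.Normal ∧ K.index = 2 ∧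
      ∀ a ∈ K, α ((a : N0) : HN) = (n : HN) * ((a : N0) : HN) * (n : HN)⁻¹ := by
  obtain ⟨K, hKn, hK2, hcov⟩ := exists_double_cover
  obtain ⟨hxK, hyK⟩ := CfsgLib.Schur.Sporadic.HN.mem_of_index_two hK2
  have hperf := CfsgLib.Schur.Sporadic.HN.commutator_K hcov
  have hN : ∀ g ∈ N0, α g ∈ N0 := fun g hg => by
    refine mem_N0_of_commute_sq ?_
    rw [← hα]
    exact Commute.map (congrArg Subtype.val (Subgroup.mem_center_iff.1 sq_facts.1 ⟨g, hg⟩)).symm α
  have hNi : ∀ g ∈ N0, α.symm g ∈ N0 := fun g hg => by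
    refine mem_N0_of_commute_sq ?_
    rw [← α.symm_apply_apply (gX ^ 2), hα]
    exact Commute.map (congrArg Subtype.val (Subgroup.mem_center_iff.1 sq_facts.1 ⟨g, hg⟩)).symm α.symm
  let a0 : MulAut N0 :=
    { toFun := fun g => ⟨α g, hN g g.2⟩
      invFun := fun g => ⟨α.symm g, hNi g g.2⟩
      left_inv := fun g => Subtype.ext (α.symm_apply_apply _)
      right_inv := fun g => Subtype.ext (α.apply_symm_apply _)
      map_mul' := fun g h => Subtype.ext (map_mul α _ _) }
  have hcomm : commutator N0 = K := by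
    apply le_antisymm
    · rw [commutator_def, Subgroup.commutator_le]
      intro g _ h _
      have hc : IsCyclic (N0 ⧸ K) := by
        have : Fact (Nat.Prime 2) := ⟨Nat.prime_two⟩
        exact isCyclic_of_prime_card (p := 2) hK2
      rw [← QuotientGroup.eq_one_iff, ← QuotientGroup.mk'_apply, map_commutatorElement,
        commutatorElement_eq_one_iff_mul_comm]
      exact hc.isMulCommutative.is_comm.comm _ _
    · have e := Subgroup.map_subtype_commutator K
      rw [hperf, ← MonoidHom.range_eq_map, Subgroup.range_subtype] at e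
      rw [e]
      exact Subgroup.commutator_mono le_top le_top
  have hmap : K.map a0.toMonoidHom = K := by
    rw [← hcomm]
    exact Subgroup.characteristic_iff_map_eq.1 inferInstance a0
  let res : MulAut K := (a0.subgroupMap K).trans (MulEquiv.subgroupCongr hmap)
  have hres : ∀ k : K, (((res k : K) : N0) : HN) = α ((k : N0) : HN) := fun k => rfl
  have hzconj : ∀ k : N0, k ∈ K → nZ * k * nZ⁻¹ ∈ K := fun k hk => hKn.conj_mem k hk nZ
  have hmapz : K.map (MulAut.conj nZ).toMonoidHom = K := by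
    refine le_antisymm ?_ ?_
    · rintro _ ⟨k, hk, rfl⟩; exact hzconj k hk
    · intro k hk
      exact ⟨nZ⁻¹ * k * nZ, by simpa using hKn.conj_mem k hk nZ⁻¹, by simp [mul_assoc]⟩
  let zeta : MulAut K := ((MulAut.conj nZ).subgroupMap K).trans (MulEquiv.subgroupCongr hmapz)
  have hzeta' : ∀ k : K, ((zeta k : K) : N0) = nZ * (k : N0) * nZ⁻¹ := fun k => rfl
  have hzeta : ∀ k : K, zeta ≠ MulAut.conj k := by
    intro k hk
    have e : ∀ j : K, nZ * (j : N0) * nZ⁻¹ = (k : N0) * (j : N0) * (k : N0)⁻¹ := fun j => by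
      rw [← hzeta', hk]
      rfl
    have hcj : ∀ j ∈ K, Commute ((k : N0)⁻¹ * nZ) j := by
      intro j hj
      have := e ⟨j, hj⟩
      show (k : N0)⁻¹ * nZ * j = j * ((k : N0)⁻¹ * nZ)
      calc (k : N0)⁻¹ * nZ * j = (k : N0)⁻¹ * (nZ * j * nZ⁻¹) * nZ := by group
        _ = j * ((k : N0)⁻¹ * nZ) := by rw [this]; group
    have hzK : nZ ∈ K := by
      have hmem : (k : N0)⁻¹ * nZ ∈ K := by
        rcases central_of_xy (hcj nX hxK) (hcj nY hyK) with h | h <;> rw [h]
        · exact one_mem K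
        · exact pow_mem hxK 2
      simpa using K.mul_mem k.2 hmem
    exact index_two_K hK2 hzK
  obtain ⟨k, hk | hk⟩ := reduce_HS hcov zeta hzeta res
  · exact ⟨K, k, hKn, hK2, fun a ha => by rw [← hres ⟨a, ha⟩, hk]; rfl⟩
  · refine ⟨K, (k : N0) * nZ, hKn, hK2, fun a ha => ?_⟩
    rw [← hres ⟨a, ha⟩, hk, MulAut.mul_apply, MulAut.conj_apply]
    simp [hzeta', mul_assoc]

theorem eq_conj_of_fixed {α : MulAut HN} (hx : α gX = gX) (hy : α gY = gY) (hz : α gZ = gZ) :
    α ∈ Inn HN := by
  obtain ⟨h5, htx, hty, hzt⟩ := t_rels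
  have hcy : Commute gY (α gT) := by
    have h := congrArg α hty
    simp only [map_mul, map_inv, map_one, hy] at h
    show gY * α gT = α gT * gY
    calc gY * α gT = gY * α gT * ((α gT)⁻¹ * gY⁻¹ * α gT * gY) := by rw [h, mul_one]
      _ = α gT * gY := by group
  have hcw : Commute (gX⁻¹ * gY * gX) (α gT) := by
    have hcT : Commute (gX⁻¹ * gY * gX) gT := by
      have hh := commute_of_run (c := [1, 2, 0]) (by
        have h := levC_ok.2.2
        simp only [List.all_eq_true, Nat.beq_eq] at h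
        exact h [1, 2, 0] (by simp [centGens]))
      simpa [ev, nL, nX, nY, mul_assoc] using hh
    have := hcT.map α
    simpa [hx, hy] using this
  obtain ⟨k, hk5, hk⟩ := centralizer_C hcy hcw
  have hTne : α gT ≠ 1 := by
    rw [Ne, EmbeddingLike.map_eq_one_iff]
    intro e
    refine power_cube (k := 2) (Or.inl rfl) ?_
    rw [e, mul_one] at hzt
    rw [e, one_pow, mul_one, hzt]
  have hT5 : α gT ^ 5 = 1 := by rw [← map_pow, h5, map_one]
  have hx4 : gX ^ 2 * gX ^ 2 = 1 := by
    have h := pow_orderOf_eq_one (nX ^ 2)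
    rw [sq_facts.2, pow_two (nX ^ 2)] at h
    exact congrArg Subtype.val h
  have hXTX : gX ^ 2 * gT * gX ^ 2 = gT⁻¹ := gT_rev.symm
  have hconj : ∀ m : ℕ, gX ^ 2 * gT ^ m * gX ^ 2 = (gT⁻¹) ^ m := by
    intro m
    induction m with
    | zero => simpa using hx4
    | succ m ih =>
      rw [pow_succ gT, pow_succ gT⁻¹, ← ih, ← hXTX]
      calc gX ^ 2 * (gT ^ m * gT) * gX ^ 2 = gX ^ 2 * gT ^ m * (gX ^ 2 * gX ^ 2) * gT * gX ^ 2 := by
            rw [hx4, mul_one]; simp only [mul_assoc]
        _ = gX ^ 2 * gT ^ m * gX ^ 2 * (gX ^ 2 * gT * gX ^ 2) := by simp only [mul_assoc]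
  rcases hk with hk | hk
  · have hcube : (gZ * gT ^ k) ^ 3 = 1 := by
      rw [← hk, ← hz, ← map_mul, ← map_pow, hzt, map_one]
    have hfix : ∀ n : N0, gX ^ 2 * (n : HN) * (gX ^ 2)⁻¹ = n := fun n => by
      rw [mul_inv_eq_iff_eq_mul]
      exact (congrArg Subtype.val (Subgroup.mem_center_iff.1 sq_facts.1 n)).symm
    interval_cases k
    · exact absurd (by simpa using hk) hTne
    · refine ⟨1, ?_⟩
      refine MulEquiv.toMonoidHom_injective (hom_ext ?_ ?_ ?_ ?_) <;>
        simp [hx, hy, hz, hk]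
    · exact absurd hcube (power_cube (Or.inl rfl))
    · exact absurd hcube (power_cube (Or.inr rfl))
    · refine ⟨gX ^ 2, ?_⟩
      refine MulEquiv.toMonoidHom_injective (hom_ext ?_ ?_ ?_ ?_)
      · exact (hfix nX).trans hx.symm
      · exact (hfix nY).trans hy.symm
      · exact (hfix nZ).trans hz.symm
      · show gX ^ 2 * gT * (gX ^ 2)⁻¹ = α gT
        rw [inv_eq_of_mul_eq_one_right hx4, hXTX, hk]
        exact inv_eq_of_mul_eq_one_right (by rw [← pow_succ']; exact h5)
  · exfalso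
    apply hTne
    have e2 : α gT ^ 2 = 1 := by
      rw [hk, pow_two]
      calc gT ^ k * gX ^ 2 * (gT ^ k * gX ^ 2) = gT ^ k * (gX ^ 2 * gT ^ k * gX ^ 2) := by simp only [mul_assoc]
        _ = 1 := by rw [hconj, inv_pow, mul_inv_cancel]
    calc α gT = α gT ^ 5 * ((α gT ^ 2) ^ 2)⁻¹ := by group
      _ = 1 := by rw [hT5, e2]; simp

theorem fix_sq (α : MulAut HN) : ∃ g : HN, (MulAut.conj g * α) (gX ^ 2) = gX ^ 2 := by
  have : Fact (Nat.Prime 11) := ⟨by norm_num⟩
  have : Finite HN := Nat.finite_of_card_ne_zero (by rw [card_HN]; norm_num)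
  have ho : orderOf (nE : HN) = 11 := by
    rw [← orderOf_nE]
    exact orderOf_injective N0.subtype N0.subtype_injective nE
  have ho' : orderOf (α (nE : HN)) = 11 := by
    rw [← ho]
    exact orderOf_injective α.toMonoidHom α.injective _
  obtain ⟨g, j, hj0, hj, hg⟩ := exists_conj_pow (p := 11) (by rw [card_HN]; norm_num) ho ho'
  refine ⟨g, ?_⟩
  obtain ⟨u, hu⟩ : ∃ u, u = (MulAut.conj g * α) (gX ^ 2) := ⟨_, rfl⟩
  have hcu : Commute ((nE : HN) ^ j) u := by
    rw [← hg, hu]
    exact (Commute.map (congrArg Subtype.val (Subgroup.mem_center_iff.1 sq_facts.1 nE)) α).map (MulAut.conj g)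
  have hcu' : Commute (nE : HN) u := by
    obtain ⟨i, hi⟩ := exists_pow_eq_self_of_coprime (n := j) (x := (nE : HN)) (by
      rw [ho]
      exact (Nat.coprime_comm.1 ((Nat.Prime.coprime_iff_not_dvd (by norm_num)).2
        (fun h => by have := Nat.le_of_dvd hj0 h; omega))))
    rw [← hi]
    exact hcu.pow_left i
  have huN := mem_N0_of_commute_E hcu'
  have hd : gX ^ 2 * gX ^ 2 = 1 := by
    have h := pow_orderOf_eq_one (nX ^ 2)
    rw [sq_facts.2, pow_two (nX ^ 2)] at h
    exact congrArg Subtype.val h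
  have huu : u * u = 1 := by rw [hu, ← map_mul, hd, map_one]
  rw [← hu]
  rcases centralizer_E (g := ⟨u, huN⟩) (Subtype.ext hcu'.symm.eq) (Subtype.ext huu) with h | h
  · have h1 : u = 1 := congrArg Subtype.val h
    rw [hu, EmbeddingLike.map_eq_one_iff] at h1
    exact absurd h1 x_sq_ne_one
  · exact congrArg Subtype.val h

theorem mem_or_mem (α : MulAut HN) : α ∈ Inn HN ∨ outer⁻¹ * α ∈ Inn HN := by
  have hn := innNormal HN
  obtain ⟨g, hg⟩ := fix_sq α
  obtain ⟨K, n, hKn, hK2, hK⟩ := fix_xy hg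
  obtain ⟨hxK, hyK⟩ := CfsgLib.Schur.Sporadic.HN.mem_of_index_two hK2
  have hnx : (MulAut.conj g * α) gX = (n : HN) * gX * (n : HN)⁻¹ := hK nX hxK
  have hny : (MulAut.conj g * α) gY = (n : HN) * gY * (n : HN)⁻¹ := hK nY hyK
  obtain ⟨β, hβ⟩ : ∃ β, β = MulAut.conj (n : HN)⁻¹ * (MulAut.conj g * α) := ⟨_, rfl⟩
  have hbx : β gX = gX := by
    rw [hβ, MulAut.mul_apply, hnx, MulAut.conj_apply]; group
  have hby : β gY = gY := by
    rw [hβ, MulAut.mul_apply, hny, MulAut.conj_apply]; group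
  have hd : gX ^ 2 * gX ^ 2 = 1 := by
    have h := pow_orderOf_eq_one (nX ^ 2)
    rw [sq_facts.2, pow_two (nX ^ 2)] at h
    exact congrArg Subtype.val h
  have hbd : β (gX ^ 2) = gX ^ 2 := by rw [map_pow, hbx]
  have hbZN : β gZ ∈ N0 := mem_N0_of_commute_sq (by
    rw [← hbd]
    exact Commute.map (congrArg Subtype.val (Subgroup.mem_center_iff.1 sq_facts.1 nZ)).symm β)
  have hKxy : ∀ a ∈ K, β ((a : N0) : HN) = ((a : N0) : HN) := by
    intro a ha
    rw [hβ, MulAut.mul_apply, hK a ha, MulAut.conj_apply]; group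
  have hcom : ∀ a ∈ K, Commute ((nZ : N0)⁻¹ * ⟨β gZ, hbZN⟩) a := by
    intro a ha
    have h1 := hKxy _ (hKn.conj_mem a ha nZ)
    simp only [Subgroup.coe_mul, Subgroup.coe_inv, map_mul, map_inv, hKxy a ha] at h1
    apply Subtype.ext
    show gZ⁻¹ * β gZ * (a : HN) = (a : HN) * (gZ⁻¹ * β gZ)
    change β gZ * (a : HN) * (β gZ)⁻¹ = gZ * (a : HN) * gZ⁻¹ at h1
    calc gZ⁻¹ * β gZ * (a : HN) = gZ⁻¹ * (β gZ * (a : HN) * (β gZ)⁻¹) * β gZ := by group
      _ = (a : HN) * (gZ⁻¹ * β gZ) := by rw [h1]; group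
  have hconjI : ∀ a : HN, MulAut.conj a ∈ Inn HN := fun a => ⟨a, rfl⟩
  have hmemI : ∀ {γ : MulAut HN}, γ ∈ Inn HN ↔ MulAut.conj (n : HN)⁻¹ * (MulAut.conj g * γ) ∈ Inn HN :=
    fun {γ} => by
      rw [Subgroup.mul_mem_cancel_left _ (hconjI _), Subgroup.mul_mem_cancel_left _ (hconjI _)]
  rcases central_of_xy (hcom nX hxK) (hcom nY hyK) with h | h
  · left
    rw [hmemI, ← hβ]
    exact eq_conj_of_fixed hbx hby (by
      have := congrArg (fun a : N0 => (a : HN)) (inv_mul_eq_one.1 h)
      exact this.symm)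
  · right
    have hz : β gZ = gZ * gX ^ 2 := congrArg Subtype.val (eq_mul_of_inv_mul_eq h)
    have hmem : outer⁻¹ * β ∈ Inn HN := by
      obtain ⟨tx, ty, tz, -⟩ := twist_of
      refine eq_conj_of_fixed ?_ ?_ ?_ <;> rw [MulAut.mul_apply, MulAut.inv_def, MulEquiv.symm_apply_eq, outer_apply]
      · rw [tx, hbx]
      · rw [ty, hby]
      · rw [tz, hz]
    have e : outer⁻¹ * α = outer⁻¹ * (MulAut.conj g)⁻¹ * (MulAut.conj (n : HN)⁻¹)⁻¹ * outer * (outer⁻¹ * β) := by
      rw [hβ]; group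
    rw [e]
    refine mul_mem ?_ hmem
    have := hn.conj_mem _ (mul_mem (inv_mem ⟨g, rfl⟩) (inv_mem ⟨(n : HN)⁻¹, rfl⟩) :
      (MulAut.conj g)⁻¹ * (MulAut.conj (n : HN)⁻¹)⁻¹ ∈ Inn HN) outer⁻¹
    simpa [mul_assoc] using this

theorem card_out : Nat.card (Out HN) = 2 := by
  show (Inn HN).index = 2
  rw [Subgroup.index_eq_two_iff]
  refine ⟨outer⁻¹, fun α => ?_⟩
  rcases mem_or_mem α with h | h
  · refine Or.inr ⟨h, fun hc => ?_⟩
    have hn := innNormal HN
    have : α * outer⁻¹ ∈ Inn HN := hc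
    rw [Subgroup.mul_mem_cancel_left _ h] at this
    exact outer_notMem (inv_mem_iff.1 this)
  · refine Or.inl ⟨?_, fun hc => ?_⟩
    · exact (innNormal HN).mem_comm h
    · rw [Subgroup.mul_mem_cancel_right _ hc] at h
      exact outer_notMem (inv_mem_iff.1 h)

end CfsgLib.Sporadic.CosetCert.HNOut
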